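import Mathlib
import Cfsg.Agent.Lib.Supersolvable.Basic
import Cfsg.Agent.Lib.Coprime.Action
import Cfsg.Agent.Lib.Coprime.Generation
import Cfsg.Agent.Lib.PSolvable.Omega

/-!
# Huppert's theorem: prime index maximal subgroups imply supersolvability
-/

set_option autoImplicit false
set_option linter.style.haveILetI false

open scoped commutatorElement Pointwise

namespace CfsgLib.Huppert

open Cfsg

universe u

/-- In a supersolvable group an element of order prime to `p` which is a commutator or a
`(p-1)`-th power centralizes every normal `p`-subgroup. -/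
theorem commute_of_supersolvable (p : ℕ) [hp : Fact p.Prime] (n : ℕ) :
    ∀ (X : Type u) [Group X] [Finite X] (R : Subgroup X), Nat.card R = n → IsSupersolvable X →
    R.Normal → IsPGroup p R → ∀ a b w : X, (w = ⁅a, b⁆ ∨ w = a ^ (p - 1)) →
    (orderOf w).Coprime p → ∀ r ∈ R, w * r = r * w := by
  induction n using Nat.strong_induction_on with
  | _ n IH =>
  intro X _ _ R hn hX hRn hRp a b w hw hcop r hr
  rcases eq_or_ne R ⊥ with rfl | hR
  · rw [Subgroup.mem_bot] at hr; simp [hr]
  haveI := hRn
  obtain ⟨L, hLn, hLR, hLc⟩ := CfsgLib.Supersolvable.exists_normal_prime_card_le hX R hR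
  haveI := hLn
  have hLcard : Nat.card L = p := by
    obtain ⟨i, hi⟩ := IsPGroup.iff_card.mp (hRp.to_le hLR)
    rw [hi] at hLc
    rw [hi, (Nat.Prime.eq_one_of_pow hLc), pow_one]
  haveI : IsCyclic L := isCyclic_of_prime_card hLcard
  have hφ : (MulAut.conjNormal w : MulAut L) = 1 := by
    have hcomm : ∀ f g : MulAut L, f * g = g * f := fun f g =>
      (IsCyclic.mulAutMulEquiv L).injective (by rw [map_mul, map_mul, mul_comm])
    rcases hw with rfl | rfl
    · rw [map_commutatorElement]
      exact commutatorElement_eq_one_iff_mul_comm.mpr (hcomm _ _)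
    · rw [map_pow]
      apply (IsCyclic.mulAutMulEquiv L).injective
      rw [map_pow, map_one]
      have hc : Nat.card (ZMod (Nat.card L))ˣ = p - 1 := by
        rw [hLcard, Nat.card_eq_fintype_card, ZMod.card_units]
      rw [← hc, pow_card_eq_one']
  have hfixL : ∀ d ∈ L, w * d * w⁻¹ = d := by
    intro d hd
    have h1 := congrArg Subtype.val (DFunLike.congr_fun hφ ⟨d, hd⟩)
    simpa using h1
  set f := QuotientGroup.mk' L
  have hf : Function.Surjective f := QuotientGroup.mk'_surjective L
  have hlt : Nat.card (R.map f) < n := by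
    have h1 : Nat.card (R.map f) * p = n := by
      rw [← hn, ← hLcard]
      have h2 := Subgroup.card_eq_card_quotient_mul_card_subgroup (L.subgroupOf R)
      rw [Nat.card_congr (Subgroup.subgroupOfEquivOfLe hLR).toEquiv] at h2
      rw [h2]
      congr 1
      have hker : (f.comp R.subtype).ker = L.subgroupOf R := by
        rw [← MonoidHom.comap_ker, QuotientGroup.ker_mk']; rfl
      have hrange : (f.comp R.subtype).range = R.map f := by
        rw [MonoidHom.range_comp, Subgroup.range_subtype]
      rw [← hrange, ← hker,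
        ← Nat.card_congr (QuotientGroup.quotientKerEquivRange (f.comp R.subtype)).toEquiv]
    have h0 : 0 < Nat.card (R.map f) := Nat.card_pos
    calc Nat.card (R.map f) = Nat.card (R.map f) * 1 := (mul_one _).symm
      _ < Nat.card (R.map f) * p := Nat.mul_lt_mul_of_pos_left hp.out.one_lt h0
      _ = n := h1
  have hq := IH _ hlt (X ⧸ L) (R.map f) rfl (CfsgLib.Supersolvable.quotient hX L)
    (Subgroup.Normal.map hRn f hf) (hRp.map f) (f a) (f b) (f w)
    (by
      rcases hw with rfl | rfl
      · exact Or.inl (map_commutatorElement f a b)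
      · exact Or.inr (map_pow f a _))
    (hcop.coprime_dvd_left (orderOf_map_dvd f w)) (f r) (Subgroup.mem_map_of_mem f hr)
  set d := r⁻¹ * (w * r * w⁻¹) with hd
  have hdL : d ∈ L := (QuotientGroup.eq_one_iff d).mp (by
    show f d = 1
    rw [hd, map_mul, map_mul, map_mul, map_inv, map_inv, hq]; group)
  have hpow : ∀ m : ℕ, w ^ m * r * (w ^ m)⁻¹ = r * d ^ m := by
    intro m
    induction m with
    | zero => simp
    | succ m ihm =>
      calc w ^ (m + 1) * r * (w ^ (m + 1))⁻¹ = w * (w ^ m * r * (w ^ m)⁻¹) * w⁻¹ := by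
            rw [pow_succ']; group
        _ = (w * r * w⁻¹) * (w * d ^ m * w⁻¹) := by rw [ihm]; group
        _ = r * d ^ (m + 1) := by rw [hfixL _ (L.pow_mem hdL m), show w * r * w⁻¹ = r * d by rw [hd]; group, mul_assoc,
              ← pow_succ']
  have hd1 : d ^ orderOf w = 1 := by
    have := hpow (orderOf w)
    rw [pow_orderOf_eq_one, inv_one, one_mul, mul_one] at this
    exact mul_eq_left.mp this.symm
  have hdp : orderOf d ∣ p := hLcard ▸ Subgroup.orderOf_dvd_natCard L hdL
  have : d = 1 := orderOf_eq_one_iff.mp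
    (Nat.eq_one_of_dvd_coprimes hcop (orderOf_dvd_of_pow_eq_one hd1) hdp)
  rw [hd, inv_mul_eq_one] at this
  exact (mul_inv_eq_iff_eq_mul.mp this.symm)

/-- An endomorphism of exponent dividing `p - 1` of a nontrivial group of exponent `p` acts on
some nontrivial element as a power map. -/
theorem exists_power_eigen {N : Type*} [CommGroup N] [Finite N] [Nontrivial N] (p : ℕ)
    [hp : Fact p.Prime] (hN : ∀ x : N, x ^ p = 1) (σ : N →* N)
    (hσ : ∀ x, (⇑σ)^[p - 1] x = x) : ∃ (i : ℕ) (x : N), x ≠ 1 ∧ σ x = x ^ i := by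
  classical
  haveI : Module (ZMod p) (Additive N) := AddCommGroup.zmodModule fun x => hN x.toMul
  set L : Module.End (ZMod p) (Additive N) := AddMonoidHom.toZModLinearMap p (MonoidHom.toAdditive σ)
  have hLpow : ∀ (m : ℕ) (x : Additive N),
      (L ^ m : Module.End (ZMod p) (Additive N)) x = Additive.ofMul ((⇑σ)^[m] x.toMul) := by
    intro m
    induction m with
    | zero => intro x; simp
    | succ m ih =>
      intro x
      rw [pow_succ', Module.End.mul_apply, ih, Function.iterate_succ_apply']
      rfl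
  have h1 : L ^ p = L := by
    have e : L ^ p = L ^ (p - 1 + 1) :=
      congrArg (fun j => L ^ j) (Nat.sub_add_cancel hp.out.one_lt.le).symm
    rw [e, pow_succ']
    have : L ^ (p - 1) = 1 := LinearMap.ext fun x => by rw [hLpow, hσ]; rfl
    rw [this, mul_one]
  set g : Polynomial (ZMod p) := Polynomial.X ^ p - Polynomial.X with hg
  have hg0 : g ≠ 0 := FiniteField.X_pow_card_sub_X_ne_zero (ZMod p) hp.out.one_lt
  have hgs : g.Splits := by
    rw [Polynomial.splits_iff_card_roots, hg,
      FiniteField.X_pow_card_sub_X_natDegree_eq (ZMod p) hp.out.one_lt]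
    have := FiniteField.roots_X_pow_card_sub_X (ZMod p)
    rw [ZMod.card] at this
    rw [this, Finset.card_val, Finset.card_univ, ZMod.card]
  have hdvd : minpoly (ZMod p) L ∣ g := minpoly.dvd _ _ (by simp [hg, h1])
  haveI : Nontrivial (Additive N) := inferInstanceAs (Nontrivial N)
  haveI : Module.Finite (ZMod p) (Additive N) := Module.Finite.of_finite
  have hint : IsIntegral (ZMod p) L := Algebra.IsIntegral.isIntegral L
  obtain ⟨μ, hμ⟩ := (hgs.of_dvd hg0 hdvd).exists_eval_eq_zero
    (minpoly.degree_pos hint).ne'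
  obtain ⟨v, hv⟩ := (Module.End.hasEigenvalue_of_isRoot (f := L) (μ := μ) hμ).exists_hasEigenvector
  refine ⟨μ.val, v.toMul, fun e => hv.2 ?_, ?_⟩
  · exact Additive.toMul.injective e
  · have h2 : L v = μ • v := hv.apply_eq_smul
    rw [← ZMod.natCast_zmod_val μ, Nat.cast_smul_eq_nsmul] at h2
    exact congrArg Additive.toMul h2

/-- The crucial configuration: a group whose minimal normal subgroup `N` is unique, contained in
the Frattini subgroup and has supersolvable quotient, and whose Sylow subgroup for the prime of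
`N` is normal. -/
theorem isCyclic_of_unique {G : Type u} [Group G] [Finite G] (p : ℕ) [hp : Fact p.Prime]
    (Q : Sylow p G) [(Q : Subgroup G).Normal] (hQ : (Q : Subgroup G) ≠ ⊥) (N : Subgroup G)
    [N.Normal] (hN : N ≠ ⊥) (huniq : ∀ R : Subgroup G, R.Normal → R ≠ ⊥ → N ≤ R)
    (hΦ : N ≤ frattini G) (hss : IsSupersolvable (G ⧸ N)) : IsCyclic N := by
  classical
  set P : Subgroup G := (Q : Subgroup G)
  have hPp : IsPGroup p P := Q.2
  obtain ⟨K, hK⟩ := Subgroup.exists_right_complement'_of_coprime (N := P) Q.card_coprime_index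
  have hKcop : (Nat.card K).Coprime p := by
    rw [← hK.symm.index_eq_card]
    exact Nat.coprime_comm.mp ((hp.out.coprime_iff_not_dvd).mpr Q.not_dvd_index)
  have hmemK : ∀ x ∈ K, (orderOf x).Coprime p := fun x hx =>
    hKcop.coprime_dvd_left (Subgroup.orderOf_dvd_natCard K hx)
  have htop : P ⊔ K = ⊤ := hK.sup_eq_top
  have hNP : N ≤ P := huniq P inferInstance hQ
  -- `N` is central in `P`
  haveI : Nontrivial P := (Subgroup.nontrivial_iff_ne_bot P).mpr hQ
  have hZne : (Subgroup.center P).map P.subtype ≠ ⊥ := by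
    rw [ne_eq, Subgroup.map_eq_bot_iff_of_injective _ P.subtype_injective]
    haveI := hPp.center_nontrivial
    exact (Subgroup.nontrivial_iff_ne_bot _).mp inferInstance
  have hNZ : ∀ x ∈ N, ∀ y ∈ P, x * y = y * x := by
    intro x hx y hy
    obtain ⟨z, hz, rfl⟩ := huniq _ inferInstance hZne hx
    exact congrArg Subtype.val (Subgroup.mem_center_iff.mp hz ⟨y, hy⟩).symm
  have hNcomm : IsMulCommutative N :=
    ⟨⟨fun a b => Subtype.ext (hNZ a a.2 b (hNP b.2))⟩⟩
  -- exponent `p`
  have hexp : ∀ x : N, x ^ p = 1 := by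
    have hpos : ∀ x : G, x ∈ N → x ^ p = 1 := by
      let W : Subgroup G :=
        { carrier := {x | x ∈ N ∧ x ^ p = 1}
          one_mem' := ⟨N.one_mem, one_pow _⟩
          mul_mem' := fun {a b} ha hb => ⟨N.mul_mem ha.1 hb.1, by
            rw [Commute.mul_pow (hNZ a ha.1 b (hNP hb.1)), ha.2, hb.2, mul_one]⟩
          inv_mem' := fun {a} ha => ⟨N.inv_mem ha.1, by rw [inv_pow, ha.2, inv_one]⟩ }
      have hW : W.Normal := ⟨fun x hx g => ⟨Subgroup.Normal.conj_mem inferInstance x hx.1 g, by
        rw [conj_pow, hx.2, mul_one, mul_inv_cancel]⟩⟩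
      have hW0 : W ≠ ⊥ := by
        have hd : p ∣ Nat.card N := by
          obtain ⟨i, hi⟩ := IsPGroup.iff_card.mp (hPp.to_le hNP)
          rw [hi]
          refine dvd_pow_self p ?_
          rintro rfl
          exact hN (Subgroup.eq_bot_of_card_eq N (by simpa using hi))
        obtain ⟨x, hx⟩ := exists_prime_orderOf_dvd_card' (G := N) p hd
        intro e
        have hxW : (x : G) ∈ W := ⟨x.2, by
          have := congrArg Subtype.val (pow_orderOf_eq_one x)
          rwa [hx] at this⟩
        rw [e, Subgroup.mem_bot] at hxW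
        rw [show x = 1 from Subtype.ext hxW, orderOf_one] at hx
        exact hp.out.ne_one hx.symm
      exact fun x hx => (huniq W hW hW0 hx).2
    exact fun x => Subtype.ext (hpos x x.2)
  -- `N ≤ Φ(P)`
  have hNΦ : N ≤ (frattini P).map P.subtype := by
    haveI : ((frattini P).map P.subtype).Normal := inferInstance
    by_contra hc
    have hΦP : frattini P = ⊥ := by
      by_contra h
      exact hc (huniq _ inferInstance fun e =>
        h ((Subgroup.map_eq_bot_iff_of_injective _ P.subtype_injective).mp e))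
    have hel := CfsgLib.PSolvable.commutator_le_frattini (p := p) hPp
    have hPc : ∀ x ∈ P, ∀ y ∈ P, x * y = y * x := fun x hx y hy => by
      have h1 := hel.1 (Subgroup.commutator_mem_commutator (Subgroup.mem_top (⟨x, hx⟩ : P))
        (Subgroup.mem_top ⟨y, hy⟩))
      rw [hΦP, Subgroup.mem_bot, commutatorElement_eq_one_iff_mul_comm] at h1
      exact congrArg Subtype.val h1
    have hPe : ∀ x ∈ P, x ^ p = 1 := fun x hx => by
      have h1 := hel.2 ⟨x, hx⟩
      rw [hΦP, Subgroup.mem_bot] at h1
      exact congrArg Subtype.val h1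
    haveI : IsMulCommutative P := ⟨⟨fun a b => Subtype.ext (hPc a a.2 b b.2)⟩⟩
    obtain ⟨W, ⟨hWP, hWN⟩, hWmax⟩ := (Set.toFinite {W : Subgroup G | W ≤ P ∧ N ⊓ W = ⊥}).exists_maximal
      ⟨⊥, bot_le, inf_bot_eq _⟩
    have hsup : N ⊔ W = P := by
      refine le_antisymm (sup_le hNP hWP) fun x hx => ?_
      by_contra hxn
      have hW' : W ⊔ Subgroup.zpowers x ≤ P := sup_le hWP (Subgroup.zpowers_le.mpr hx)
      have hinf : N ⊓ (W ⊔ Subgroup.zpowers x) = ⊥ := by
        rw [eq_bot_iff]
        rintro y ⟨hyN, hy⟩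
        obtain ⟨w, hw, z, hz, rfl⟩ := Set.mem_mul.mp (show y ∈ (W : Set G) * (Subgroup.zpowers x : Set G) by
          rw [← Subgroup.coe_mul_of_left_le_normalizer_right _ _ (fun v hv =>
            Subgroup.centralizer_le_normalizer _ (Subgroup.mem_centralizer_iff.mpr fun u hu => by
              obtain ⟨i, rfl⟩ := Subgroup.mem_zpowers_iff.mp hu
              exact hPc _ (P.zpow_mem hx i) v (hWP hv)))]
          exact hy)
        by_cases hz1 : z = 1
        · subst hz1
          rw [mul_one] at hyN ⊢
          exact hWN.le ⟨hyN, hw⟩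
        · exfalso
          apply hxn
          have hzle : Subgroup.zpowers x ≤ Subgroup.zpowers z := by
            haveI : Fact p.Prime := hp
            have hcard : ∀ u : G, u ∈ P → u ≠ 1 → Nat.card (Subgroup.zpowers u) = p := fun u hu h1 => by
              rw [Nat.card_zpowers, orderOf_eq_prime (hPe u hu) h1]
            have hzP : z ∈ P := Subgroup.zpowers_le.mpr hx hz
            have hx1 : x ≠ 1 := fun e => hxn (e ▸ one_mem _)
            exact (Subgroup.eq_of_le_of_card_ge (Subgroup.zpowers_le.mpr hz)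
              (by rw [hcard z hzP hz1, hcard x hx hx1])).ge
          have hzm : z ∈ N ⊔ W := by
            rw [show z = w⁻¹ * (w * z) by group]
            exact mul_mem (inv_mem (Subgroup.mem_sup_right hw)) (Subgroup.mem_sup_left hyN)
          exact Subgroup.zpowers_le.mpr hzm (hzle (Subgroup.mem_zpowers x))
      have := hWmax ⟨hW', hinf⟩ le_sup_left
      exact hxn (Subgroup.mem_sup_right (this (Subgroup.mem_sup_right (Subgroup.mem_zpowers x))))
    have hcardcop : (Nat.card K).Coprime (Nat.card P) := by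
      obtain ⟨i, hi⟩ := IsPGroup.iff_card.mp hPp
      rw [hi]; exact hKcop.pow_right _
    obtain ⟨W', hW'P, hKW', hNW', hsup'⟩ := CfsgLib.Coprime.exists_invariant_complement
      (A := K) Subgroup.le_normalizer_of_normal hcardcop hNP Subgroup.le_normalizer_of_normal hWP
      hWN hsup
    have hW'n : W'.Normal := by
      rw [← Subgroup.normalizer_eq_top_iff, eq_top_iff, ← htop]
      refine sup_le (le_trans ?_ (Subgroup.centralizer_le_normalizer _)) hKW'
      exact fun v hv => Subgroup.mem_centralizer_iff.mpr fun u hu => hPc u (hW'P hu) v hv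
    rcases eq_or_ne W' ⊥ with e | e
    · rw [e, sup_bot_eq] at hsup'
      have hKtop : K ≠ ⊤ := fun h => by
        have := hK.card_mul
        rw [h, Subgroup.card_top] at this
        exact hQ (Subgroup.eq_bot_of_card_eq P
          ((Nat.mul_eq_right Nat.card_pos.ne').mp this))
      obtain ⟨M, hM, hKM⟩ := (IsCoatomic.eq_top_or_exists_le_coatom K).resolve_left hKtop
      refine hM.1 (top_le_iff.mp ?_)
      rw [← htop]
      exact sup_le (hsup' ▸ hΦ.trans (frattini_le_coatom hM)) hKM
    · exact hN (le_bot_iff.mp (hNW' ▸ le_inf le_rfl (huniq W' hW'n e)))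
  -- the special elements of `K` centralize `P`, hence are trivial
  have hcent : K ⊓ Subgroup.centralizer (P : Set G) = ⊥ := by
    by_contra hne
    have hn : (K ⊓ Subgroup.centralizer (P : Set G)).Normal := by
      rw [← Subgroup.normalizer_eq_top_iff, eq_top_iff, ← htop]
      refine sup_le (le_trans ?_ (Subgroup.centralizer_le_normalizer _)) ?_
      · exact fun v hv => Subgroup.mem_centralizer_iff.mpr fun u hu =>
          (Subgroup.mem_centralizer_iff.mp hu.2 v hv).symm
      · exact (le_inf Subgroup.le_normalizer Subgroup.le_normalizer_of_normal).trans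
          (Subgroup.inf_normalizer_le_normalizer_inf)
    have h1 : N ≤ K ⊓ P := le_inf ((huniq _ hn hne).trans inf_le_left) hNP
    rw [inf_comm, hK.disjoint.eq_bot, le_bot_iff] at h1
    exact hN h1
  have hspecial : ∀ a b w : G, a ∈ K → b ∈ K → (w = ⁅a, b⁆ ∨ w = a ^ (p - 1)) → w = 1 := by
    intro a b w ha hb hw
    have hwK : w ∈ K := by
      rcases hw with rfl | rfl
      · rw [commutatorElement_def]
        exact K.mul_mem (K.mul_mem (K.mul_mem ha hb) (K.inv_mem ha)) (K.inv_mem hb)
      · exact K.pow_mem ha _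
    set f := QuotientGroup.mk' N
    have hf : Function.Surjective f := QuotientGroup.mk'_surjective N
    have hle : Subgroup.zpowers w ≤ Subgroup.centralizer (P : Set G) := by
      refine CfsgLib.Coprime.le_centralizer_of_frattini Subgroup.le_normalizer_of_normal ?_ ?_
      · rw [Nat.card_zpowers]
        obtain ⟨i, hi⟩ := IsPGroup.iff_card.mp (hPp.to_subgroup (frattini P))
        rw [hi]
        exact (hmemK w hwK).pow_right i
      · intro u hu r hr
        apply hNΦ
        obtain ⟨i, rfl⟩ := Subgroup.mem_zpowers_iff.mp hu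
        rw [← QuotientGroup.eq_one_iff]
        have hc : Commute (f w) (f r) := commute_of_supersolvable p _ (G ⧸ N) (P.map f) rfl hss
          (Subgroup.Normal.map inferInstance f hf) (hPp.map f) (f a) (f b) (f w)
          (by
            rcases hw with rfl | rfl
            · exact Or.inl (map_commutatorElement f a b)
            · exact Or.inr (map_pow f a _))
          ((hmemK w hwK).coprime_dvd_left (orderOf_map_dvd f w)) (f r) (Subgroup.mem_map_of_mem f hr)
        show f (w ^ i * r * (w ^ i)⁻¹ * r⁻¹) = 1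
        rw [map_mul, map_mul, map_mul, map_inv, map_inv, map_zpow, (hc.zpow_left i).eq]
        group
    have : w ∈ K ⊓ Subgroup.centralizer (P : Set G) := ⟨hwK, hle (Subgroup.mem_zpowers w)⟩
    rwa [hcent, Subgroup.mem_bot] at this
  have hKcomm : ∀ a ∈ K, ∀ b ∈ K, a * b = b * a := fun a ha b hb =>
    commutatorElement_eq_one_iff_mul_comm.mp (hspecial a b _ ha hb (Or.inl rfl))
  -- elements of `K` act on `N` as power maps
  letI : CommGroup N := { (inferInstance : Group N) with mul_comm := hNcomm.is_comm.comm }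
  haveI : Nontrivial N := (Subgroup.nontrivial_iff_ne_bot N).mpr hN
  have hpower : ∀ k ∈ K, ∃ i : ℕ, ∀ x ∈ N, k * x * k⁻¹ = x ^ i := by
    intro k hk
    set σ : N →* N := (MulAut.conjNormal k : MulAut N).toMonoidHom
    have hit : ∀ (m : ℕ) (x : N), (((⇑σ)^[m] x : N) : G) = k ^ m * (x : G) * (k ^ m)⁻¹ := by
      intro m
      induction m with
      | zero => intro x; simp
      | succ m ih =>
        intro x
        rw [Function.iterate_succ_apply']
        rw [show ((σ ((⇑σ)^[m] x) : N) : G) = k * (((⇑σ)^[m] x : N) : G) * k⁻¹ from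
          MulAut.conjNormal_apply k _, ih, pow_succ']
        group
    obtain ⟨i, x, hx1, hx⟩ := exists_power_eigen p hexp σ fun x => Subtype.ext (by
      rw [hit, hspecial k k _ hk hk (Or.inr rfl), one_mul, inv_one, mul_one])
    refine ⟨i, ?_⟩
    let E : Subgroup G :=
      { carrier := {x | x ∈ N ∧ k * x * k⁻¹ = x ^ i}
        one_mem' := ⟨N.one_mem, by simp⟩
        mul_mem' := fun {a b} ha hb => ⟨N.mul_mem ha.1 hb.1, by
          rw [Commute.mul_pow (hNZ a ha.1 b (hNP hb.1)), ← ha.2, ← hb.2]; group⟩
        inv_mem' := fun {a} ha => ⟨N.inv_mem ha.1, by rw [inv_pow, ← ha.2]; group⟩ }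
    have hE0 : E ≠ ⊥ := fun e => by
      have hxE : (x : G) ∈ E := ⟨x.2, by
        simpa [σ] using congrArg Subtype.val hx⟩
      rw [e, Subgroup.mem_bot] at hxE
      exact hx1 (Subtype.ext hxE)
    have hEn : E.Normal := by
      refine ⟨fun y hy g => ⟨Subgroup.Normal.conj_mem inferInstance y hy.1 g, ?_⟩⟩
      obtain ⟨q, hq, c, hc, rfl⟩ := Subgroup.mem_sup_of_normal_left.mp
        (show g ∈ P ⊔ K by rw [htop]; trivial)
      have hcy : c * y * c⁻¹ ∈ N := Subgroup.Normal.conj_mem inferInstance y hy.1 c
      have h1 : q * c * y * (q * c)⁻¹ = c * y * c⁻¹ := by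
        calc q * c * y * (q * c)⁻¹ = q * (c * y * c⁻¹) * q⁻¹ := by group
          _ = c * y * c⁻¹ := by rw [← hNZ _ hcy q hq]; group
      rw [h1, conj_pow, ← hy.2]
      calc k * (c * y * c⁻¹) * k⁻¹ = (k * c) * y * (k * c)⁻¹ := by group
        _ = (c * k) * y * (c * k)⁻¹ := by rw [hKcomm k hk c hc]
        _ = c * (k * y * k⁻¹) * c⁻¹ := by group
    exact fun y hy => (huniq E hEn hE0 hy).2
  obtain ⟨x, hx⟩ := exists_ne (1 : N)
  have hZn : (Subgroup.zpowers (x : G)).Normal := by
    refine ⟨fun y hy g => ?_⟩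
    have hyN : y ∈ N := Subgroup.zpowers_le.mpr x.2 hy
    obtain ⟨q, hq, c, hc, rfl⟩ := Subgroup.mem_sup_of_normal_left.mp
      (show g ∈ P ⊔ K by rw [htop]; trivial)
    obtain ⟨i, hi⟩ := hpower c hc
    have h1 : q * c * y * (q * c)⁻¹ = y ^ i := by
      calc q * c * y * (q * c)⁻¹ = q * (c * y * c⁻¹) * q⁻¹ := by group
        _ = y ^ i := by rw [hi y hyN, ← hNZ _ (N.pow_mem hyN i) q hq]; group
    rw [h1]
    exact Subgroup.pow_mem _ hy i
  have hle := huniq _ hZn fun e => hx (Subtype.ext (Subgroup.zpowers_eq_bot.mp e))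
  exact Subgroup.isCyclic_of_le hle

end CfsgLib.Huppert
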